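import Cfsg.Agent.Lib.Perm.HalfNormalizer.Steiner

/-!
In a non-solvable group of prime degree `p > 7` with a half Sylow normalizer the stabilizer of a
point has no nontrivial blocks on the other points.
-/

set_option autoImplicit false

namespace Cfsg.Agent.Perm.HalfNormalizer.Coord

open Finset

variable {p : ℕ} [hp : Fact p.Prime] {G : Type*} [Group G] {Ω : Type*} [MulAction G Ω] [Fintype Ω]
  (C : Coord p G Ω)

include C

/-- No family of equivalence relations `R a` on the points different from `a`. -/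
theorem no_blocks (h7 : 7 < p) (R : Ω → Ω → Ω → Prop)
    (hinv : ∀ (g : G) a b c, R a b c → R (g • a) (g • b) (g • c))
    (hrefl : ∀ a b, b ≠ a → R a b b) (hsymm : ∀ a b c, R a b c → R a c b)
    (htr : ∀ a b c d, R a b c → R a c d → R a b d)
    (hoff : ∀ a b c, R a b c → b ≠ a ∧ c ≠ a)
    (hnt : ∃ a b c, R a b c ∧ b ≠ c) (hpr : ∃ a b c, b ≠ a ∧ c ≠ a ∧ ¬ R a b c) : False := by
  classical
  have hΩ : Fintype.card Ω = p := by rw [← Fintype.card_congr C.e, ZMod.card]
  have hinv' : ∀ (g : G) a b c, R (g • a) (g • b) (g • c) ↔ R a b c := fun g a b c =>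
    ⟨fun h => by simpa using hinv g⁻¹ _ _ _ h, hinv g a b c⟩
  let cls : Ω → Ω → Finset Ω := fun a b => univ.filter fun c => R a b c
  have hcls : ∀ a b c, c ∈ cls a b ↔ R a b c := fun a b c => by simp [cls]
  -- all classes have the same size
  have hcard : ∀ a b a' b', a ≠ b → a' ≠ b' → (cls a b).card = (cls a' b').card := by
    intro a b a' b' h h'
    obtain ⟨g, rfl, rfl⟩ := C.two a b a' b' h h'
    refine Finset.card_bij (fun c _ => g • c) (fun c hc => ?_) (fun c _ c' _ h => MulAction.injective g h)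
      fun c hc => ⟨g⁻¹ • c, ?_, smul_inv_smul g c⟩
    · rw [hcls, hinv']; exact (hcls _ _ _).1 hc
    · rw [hcls, ← hinv' g, smul_inv_smul]; exact (hcls _ _ _).1 hc
  obtain ⟨a₀, b₀, c₀, hR₀, hbc₀⟩ := hnt
  have hab₀ : a₀ ≠ b₀ := (hoff _ _ _ hR₀).1.symm
  set k := (cls a₀ b₀).card with hk
  have hk2 : 2 ≤ k := by
    refine le_trans (le_of_eq (Finset.card_pair hbc₀).symm) (Finset.card_le_card ?_)
    intro z hz
    rw [hcls]
    rcases Finset.mem_insert.1 hz with rfl | hz
    · exact hrefl _ _ hab₀.symm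
    · rw [Finset.mem_singleton.1 hz]; exact hR₀
  have hkp : k + 2 ≤ p := by
    obtain ⟨a, b, c, hb, hc, hn⟩ := hpr
    rw [hk, hcard a₀ b₀ a b hab₀ hb.symm]
    have hsub : cls a b ⊆ univ \ {a, c} := by
      intro z hz
      rw [hcls] at hz
      rw [Finset.mem_sdiff]
      refine ⟨Finset.mem_univ _, fun h => ?_⟩
      rcases Finset.mem_insert.1 h with rfl | h
      · exact (hoff _ _ _ hz).2 rfl
      · exact hn (Finset.mem_singleton.1 h ▸ hz)
    have := Finset.card_le_card hsub
    rw [Finset.card_sdiff_of_subset (Finset.subset_univ _), Finset.card_univ, hΩ,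
      Finset.card_pair hc.symm] at this
    omega
  have hzero : ∀ d : ZMod p, d ≠ 0 → C.e 0 ≠ C.e d := fun d hd h => hd (C.e.injective h).symm
  have hscale : ∀ u x y : ZMod p, u ≠ 0 → R (C.e 0) (C.e x) (C.e y) →
      R (C.e 0) (C.e (u * u * x)) (C.e (u * u * y)) := by
    intro u x y hu h
    obtain ⟨g, hg⟩ := C.hsq u hu
    have := hinv g _ _ _ h
    rwa [hg, hg, hg, mul_zero] at this
  by_cases hS : ∀ d : ZMod p, d ≠ 0 → ∃ x y : ZMod p, x ≠ y ∧
      R (C.e 0) (C.e d) (C.e x) ∧ R (C.e 0) (C.e d) (C.e y) ∧ IsSquare (x * y)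
  · -- every class at a point is fixed by a nontrivial multiplication
    let M : Ω × Ω → Ω → ZMod p := fun y z =>
      if y.2 = y.1 ∨ z = y.1 then 0
      else if R y.1 y.2 z then ((p - 1 - k : ℕ) : ZMod p) else -(k : ZMod p)
    have hMinv : ∀ (g : G) y z, M (g • y) (g • z) = M y z := by
      intro g y z
      simp only [M, Prod.smul_fst, Prod.smul_snd, smul_left_cancel_iff, hinv']
    have h0 : ∀ y, ∑ z, M y z = 0 := by
      rintro ⟨a, b⟩
      by_cases hba : b = a
      · simp [M, hba]
      simp only [M, hba, false_or]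
      have hka : (cls a b).card = k := hcard a b a₀ b₀ (Ne.symm hba) hab₀
      rw [← Finset.sum_filter_add_sum_filter_not univ (fun z => R a b z)]
      have e1 : ∀ z ∈ univ.filter (fun z => R a b z),
          (if z = a then (0 : ZMod p) else if R a b z then ((p - 1 - k : ℕ) : ZMod p) else -(k : ZMod p))
            = ((p - 1 - k : ℕ) : ZMod p) := by
        intro z hz
        rw [Finset.mem_filter] at hz
        rw [if_neg (hoff _ _ _ hz.2).2, if_pos hz.2]
      rw [Finset.sum_congr rfl e1, Finset.sum_const]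
      have ha : a ∈ univ.filter (fun z => ¬ R a b z) := by
        rw [Finset.mem_filter]
        exact ⟨Finset.mem_univ _, fun h => (hoff _ _ _ h).2 rfl⟩
      rw [← Finset.sum_erase_add _ _ ha, if_pos rfl, add_zero]
      have e2 : ∀ z ∈ (univ.filter (fun z => ¬ R a b z)).erase a,
          (if z = a then (0 : ZMod p) else if R a b z then ((p - 1 - k : ℕ) : ZMod p) else -(k : ZMod p))
            = -(k : ZMod p) := by
        intro z hz
        rw [Finset.mem_erase, Finset.mem_filter] at hz
        rw [if_neg hz.1, if_neg hz.2.2]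
      rw [Finset.sum_congr rfl e2, Finset.sum_const, Finset.card_erase_of_mem ha]
      have hnot := Finset.card_filter_add_card_filter_not (s := (univ : Finset Ω)) (fun z => R a b z)
      rw [Finset.card_univ, hΩ, show (univ.filter fun z => R a b z).card = k from hka] at hnot
      rw [show (univ.filter fun z => R a b z).card = k from hka,
        show (univ.filter fun z => ¬ R a b z).card - 1 = p - 1 - k by omega]
      simp only [nsmul_eq_mul]
      ring
    have h1 : ∀ y, ∑ z, M y z * C.e.symm z = 0 := by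
      rintro ⟨a, b⟩
      obtain ⟨i, rfl⟩ := C.e.surjective a
      obtain ⟨j, rfl⟩ := C.e.surjective b
      obtain ⟨g, hg⟩ := C.shift i
      have e1 := C.moment_zero M hMinv h0 (g := g) (m := 1) (b := i)
        (fun k => by rw [hg, one_mul]) (C.e 0, C.e (j - i))
      rw [Prod.smul_mk, hg, hg, zero_add, sub_add_cancel, one_mul] at e1
      rw [e1]
      by_cases hd : j - i = 0
      · simp [M, hd]
      obtain ⟨x, y, hxy, hx, hy, r, hr⟩ := hS (j - i) hd
      have hx0 : x ≠ 0 := fun h => (hoff _ _ _ hx).2 (by rw [h])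
      have hy0 : y ≠ 0 := fun h => (hoff _ _ _ hy).2 (by rw [h])
      have hr0 : r / x ≠ 0 := div_ne_zero (fun h => mul_ne_zero hx0 hy0 (by rw [hr, h, mul_zero])) hx0
      have hrxy : r / x * (r / x) * x = y := by
        field_simp
        linear_combination -hr
      set d := j - i
      -- the class of `d` is fixed
      have hfix : R (C.e 0) (C.e d) (C.e (r / x * (r / x) * d)) := by
        have e := hscale (r / x) d x hr0 hx
        rw [hrxy] at e
        exact htr _ _ _ _ hy (hsymm _ _ _ e)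
      obtain ⟨g', hg'⟩ := C.hsq (r / x) hr0
      have e2 := C.moment_zero M hMinv h0 (g := g') (m := r / x * (r / x)) (b := 0)
        (fun k => by rw [hg', add_zero]) (C.e 0, C.e d)
      rw [Prod.smul_mk, hg', hg', mul_zero] at e2
      have hsame : M (C.e 0, C.e (r / x * (r / x) * d)) = M (C.e 0, C.e d) := by
        funext z
        simp only [M]
        have h1 : C.e (r / x * (r / x) * d) ≠ C.e 0 := (hoff _ _ _ hfix).2
        have h2 : C.e d ≠ C.e 0 := (hzero d hd).symm
        simp only [h1, h2, false_or]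
        have : R (C.e 0) (C.e (r / x * (r / x) * d)) z ↔ R (C.e 0) (C.e d) z :=
          ⟨htr _ _ _ _ hfix, htr _ _ _ _ (hsymm _ _ _ hfix)⟩
        simp only [this]
      rw [hsame] at e2
      have hne : r / x * (r / x) ≠ 1 := fun h => hxy (by rw [← hrxy, h, one_mul])
      by_contra hF
      exact hne (mul_right_cancel₀ hF (by rw [one_mul]; exact e2.symm))
    have hc := C.crit M hMinv h0 h1 (a₀, b₀) b₀ a₀
    simp only [M, hab₀.symm, or_true, if_true, false_or, if_false, hrefl _ _ hab₀.symm] at hc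
    exact C.natCast_ne_zero (n := p - 1 - k) (by omega) (by omega) hc
  -- the classes are pairs with non-square product
  push Not at hS
  obtain ⟨d₀, hd₀, hmix₀⟩ := hS
  have hk' : k = 2 := by
    by_contra hk3
    have h3 : 2 < (cls (C.e 0) (C.e d₀)).card := by
      rw [hcard _ _ a₀ b₀ (hzero d₀ hd₀) hab₀, ← hk]; omega
    obtain ⟨x, hx, y, hy, z, hz, hxy, hxz, hyz⟩ := Finset.two_lt_card.1 h3
    obtain ⟨x, rfl⟩ := C.e.surjective x
    obtain ⟨y, rfl⟩ := C.e.surjective y
    obtain ⟨z, rfl⟩ := C.e.surjective z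
    rw [hcls] at hx hy hz
    have hx0 : x ≠ 0 := fun h => (hoff _ _ _ hx).2 (by rw [h])
    have n1 := hmix₀ x y (fun h => hxy (by rw [h])) hx hy
    have n2 := hmix₀ x z (fun h => hxz (by rw [h])) hx hz
    obtain ⟨r, hr⟩ := C.sq_mul_of_not n1 n2
    exact hmix₀ y z (fun h => hyz (by rw [h])) hy hz ⟨r / x, by field_simp; linear_combination hr⟩
  have hpart : ∀ a b, a ≠ b → ∃ c, cls a b = {b, c} ∧ c ≠ b := by
    intro a b hab
    obtain ⟨x, y, hxy, he⟩ := Finset.card_eq_two.1
      ((hcard a b a₀ b₀ hab hab₀).trans hk')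
    have hb : b ∈ cls a b := (hcls _ _ _).2 (hrefl _ _ hab.symm)
    rw [he, Finset.mem_insert, Finset.mem_singleton] at hb
    rcases hb with rfl | rfl
    · exact ⟨y, he, hxy.symm⟩
    · exact ⟨x, by rw [he, Finset.pair_comm], hxy⟩
  let Q : Ω → Ω → Ω := fun a b => if h : a ≠ b then (hpart a b h).choose else a
  have hQdiag : ∀ a, Q a a = a := fun a => by simp [Q]
  have hQspec : ∀ a b, a ≠ b → R a b (Q a b) ∧ Q a b ≠ b ∧ ∀ c, R a b c → c = b ∨ c = Q a b := by
    intro a b hab
    have e : Q a b = (hpart a b hab).choose := dif_pos hab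
    rw [e]
    obtain ⟨h1, h2⟩ := (hpart a b hab).choose_spec
    refine ⟨(hcls _ _ _).1 ((Finset.ext_iff.1 h1 _).2 (by simp)), h2, fun c hc => ?_⟩
    have := (hcls _ _ _).2 hc
    rwa [h1, Finset.mem_insert, Finset.mem_singleton] at this
  have huniq : ∀ a b c, a ≠ b → c ≠ b → R a b c → c = Q a b := fun a b c hab hcb h =>
    ((hQspec a b hab).2.2 c h).resolve_left hcb
  have hQinv : ∀ (g : G) a b, Q (g • a) (g • b) = g • Q a b := by
    intro g a b
    by_cases hab : a = b
    · rw [hab, hQdiag, hQdiag]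
    · exact (huniq _ _ _ (fun h => hab (MulAction.injective g h))
        (fun h => (hQspec a b hab).2.1 (MulAction.injective g h))
        (hinv g _ _ _ (hQspec a b hab).1)).symm
  have hne : ∀ a b, a ≠ b → Q a b ≠ a ∧ Q a b ≠ b := fun a b hab =>
    ⟨(hoff _ _ _ (hQspec a b hab).1).2, (hQspec a b hab).2.1⟩
  have hinvQ : ∀ a b, Q a (Q a b) = b := by
    intro a b
    by_cases hab : a = b
    · rw [hab, hQdiag, hQdiag]
    · exact (huniq _ _ _ (hne a b hab).1.symm (hne a b hab).2.symm
        (hsymm _ _ _ (hQspec a b hab).1)).symm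
  have hcomm : ∀ a b, Q a b = Q b a := by
    intro a b
    by_cases hab : a = b
    · rw [hab]
    by_contra hne'
    obtain ⟨x, hx⟩ : ∃ x, x ∉ ({a, b, Q a b, Q b a} : Finset Ω) := by
      by_contra hh
      push Not at hh
      have h4 : Fintype.card Ω ≤ 4 := by
        calc Fintype.card Ω = (univ : Finset Ω).card := Finset.card_univ.symm
          _ ≤ ({a, b, Q a b, Q b a} : Finset Ω).card := Finset.card_le_card fun z _ => hh z
          _ ≤ 4 := Finset.card_le_four
      omega
    simp only [Finset.mem_insert, Finset.mem_singleton, not_or] at hx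
    rcases C.at_most_two hab (Q a b) (Q b a) x (hne a b hab)
        ((hne b a (Ne.symm hab)).symm) ⟨hx.1, hx.2.1⟩ with
      ⟨g, ga, gb, h⟩ | ⟨g, ga, gb, h⟩ | ⟨g, ga, gb, h⟩
    · rw [← hQinv, ga, gb] at h
      exact hne' h
    · rw [← hQinv, ga, gb] at h
      exact hx.2.2.1 h.symm
    · rw [← hQinv, ga, gb] at h
      exact hx.2.2.2 h.symm
  set q : ZMod p → ZMod p := fun d => C.e.symm (Q (C.e 0) (C.e d)) with hq
  have hqe : ∀ d, C.e (q d) = Q (C.e 0) (C.e d) := fun d => C.e.apply_symm_apply _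
  have hqq : ∀ d, q (q d) = d := fun d => by
    apply C.e.injective
    rw [hqe, hqe, hinvQ]
  have hqs : ∀ u d, u ≠ 0 → q (u * u * d) = u * u * q d := by
    intro u d hu
    obtain ⟨g, hg⟩ := C.hsq u hu
    apply C.e.injective
    have := hQinv g (C.e 0) (C.e d)
    rw [hg, hg, mul_zero] at this
    rw [hqe, this, ← hqe, hg]
  refine C.no_netto h7 Q hQinv hQdiag hne hcomm hinvQ fun d hd => ?_
  show ¬ IsSquare (d * q d)
  have hqd₀ : q d₀ ≠ d₀ := fun h => (hne _ _ (hzero d₀ hd₀)).2 (by rw [← hqe, h])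
  have hns : ¬ IsSquare (d₀ * q d₀) := hmix₀ d₀ (q d₀) hqd₀.symm (hrefl _ _ (hzero d₀ hd₀).symm)
    (by rw [hqe]; exact (hQspec _ _ (hzero d₀ hd₀)).1)
  have hq0 : q d₀ ≠ 0 := fun h => (hne _ _ (hzero d₀ hd₀)).1 (by rw [← hqe, h])
  -- every nonzero element is a square multiple of `d₀` or of its partner
  by_cases hs : IsSquare (d * d₀)
  · obtain ⟨r, hr⟩ := hs
    have hu : r / d₀ ≠ 0 := div_ne_zero (fun h => mul_ne_zero hd hd₀ (by rw [hr, h, mul_zero])) hd₀
    have hd' : d = r / d₀ * (r / d₀) * d₀ := by field_simp; linear_combination hr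
    rw [hd', hqs _ _ hu]
    intro hh
    refine hns ?_
    obtain ⟨s, hs⟩ := hh
    exact ⟨s / (r / d₀ * (r / d₀)), by
      rw [div_mul_div_comm, eq_div_iff (mul_ne_zero (mul_ne_zero hu hu) (mul_ne_zero hu hu))]
      linear_combination hs⟩
  · obtain ⟨r, hr⟩ : IsSquare (d * q d₀) := by
      obtain ⟨s, hs'⟩ := C.sq_mul_of_not hs hns
      exact ⟨s / d₀, by field_simp; linear_combination hs'⟩
    have hu : r / q d₀ ≠ 0 := div_ne_zero (fun h => mul_ne_zero hd hq0 (by rw [hr, h, mul_zero])) hq0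
    have hd' : d = r / q d₀ * (r / q d₀) * q d₀ := by field_simp; linear_combination hr
    rw [hd', hqs _ _ hu, hqq]
    intro hh
    refine hns ?_
    obtain ⟨s, hs⟩ := hh
    exact ⟨s / (r / q d₀ * (r / q d₀)), by
      rw [div_mul_div_comm, eq_div_iff (mul_ne_zero (mul_ne_zero hu hu) (mul_ne_zero hu hu))]
      linear_combination hs⟩

end Cfsg.Agent.Perm.HalfNormalizer.Coord
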