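import Cfsg.Agent.S0674
import Cfsg.Agent.Lib.Perm.PrimeDegree

/-!
Non-solvable groups of prime degree `p` in which a Sylow normalizer has order `p (p - 1) / 2`:
coordinates, and the vanishing criterion for invariant kernels coming from the irreducibility of
the heart of the permutation module.
-/

set_option autoImplicit false

namespace Cfsg.Agent.Perm.HalfNormalizer

variable (p : ℕ) (G : Type*) [Group G] (Ω : Type*) [MulAction G Ω]

/-- Coordinates for a non-solvable group of prime degree whose normalizer of a Sylow subgroup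
contains all multiplications by squares. -/
structure Coord where
  /-- the coordinates -/
  e : ZMod p ≃ Ω
  /-- the translation -/
  t : G
  ht : ∀ k, t • e k = e (k + 1)
  hsq : ∀ u : ZMod p, u ≠ 0 → ∃ g : G, ∀ k, g • e k = e (u * u * k)
  two : ∀ a b c d : Ω, a ≠ b → c ≠ d → ∃ g : G, g • a = c ∧ g • b = d
  ins : ¬ Group.IsSolvable (MulAction.toPermHom G Ω).range
  odd : p ≠ 2

variable {p G Ω}

theorem isSolvable_of_range [FaithfulSMul G Ω]
    (h : Group.IsSolvable (MulAction.toPermHom G Ω).range) : Group.IsSolvable G := by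
  have hinj : Function.Injective (MulAction.toPermHom G Ω).rangeRestrict := by
    intro a b hab
    exact eq_of_smul_eq_smul fun x : Ω =>
      Equiv.ext_iff.1 (congrArg Subtype.val hab) x
  exact Group.isSolvable_of_isSolvable_injective hinj

theorem exists_coord [Finite G] [Finite Ω] [FaithfulSMul G Ω] (hp : p.Prime)
    (hΩ : Nat.card Ω = p) (htrans : MulAction.IsPretransitive G Ω)
    (hins : ¬ Group.IsSolvable G) (P : Sylow p G)
    (hN : 2 * Nat.card ↥(Subgroup.normalizer ((P : Subgroup G) : Set G)) = p * (p - 1)) :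
    Nonempty (Coord p G Ω) := by
  classical
  haveI := Fact.mk hp
  set H := (MulAction.toPermHom G Ω).range with hH
  have hinj : Function.Injective (MulAction.toPermHom G Ω) := by
    intro a b hab
    exact eq_of_smul_eq_smul fun x : Ω => Equiv.ext_iff.1 hab x
  haveI : MulAction.IsPretransitive H Ω := ⟨fun a b => by
    obtain ⟨g, hg⟩ := htrans.exists_smul_eq a b
    exact ⟨⟨MulAction.toPermHom G Ω g, g, rfl⟩, hg⟩⟩
  have hinsH : ¬ Group.IsSolvable H := fun h => hins (isSolvable_of_range h)
  have hp2 : p ≠ 2 := by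
    rintro rfl
    have h1 : Nat.card ↥(Subgroup.normalizer ((P : Subgroup G) : Set G)) = 1 := by omega
    have h2 : Nat.card (P : Subgroup G) ∣ 1 :=
      h1 ▸ Subgroup.card_dvd_of_le Subgroup.le_normalizer
    obtain ⟨a⟩ : Nonempty Ω := (Nat.card_pos_iff.1 (by rw [hΩ]; norm_num)).1
    have h4 : 2 ∣ Nat.card G := by
      have := (MulAction.stabilizer G a).index_dvd_card
      rwa [MulAction.index_stabilizer_of_transitive, hΩ] at this
    have h5 := P.dvd_card_of_dvd_card h4
    have := h5.trans h2
    omega
  obtain ⟨e, t', hto', ht'⟩ := Cfsg.Agent.Perm.PrimeDegree.exists_coord (p := p) hΩ H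
  obtain ⟨t, hteq⟩ := t'.2
  have ht : ∀ k, t • e k = e (k + 1) := fun k => by
    rw [← ht' k]
    show t • e k = (t' : Equiv.Perm Ω) (e k)
    rw [← hteq]
    rfl
  have hto : orderOf t = p := by
    rw [← orderOf_injective (MulAction.toPermHom G Ω) hinj t, hteq, Subgroup.orderOf_coe, hto']
  have htn : ∀ (n : ℕ) k, t ^ n • e k = e (k + n) := by
    intro n
    induction n with
    | zero => simp
    | succ n ih =>
      intro k
      rw [pow_succ', mul_smul, ih, ht, Nat.cast_succ, add_assoc]
  -- the Sylow subgroup generated by the translation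
  have hPcard : Nat.card (P : Subgroup G) = p := by
    obtain ⟨n, hn⟩ := IsPGroup.iff_card.1 P.isPGroup'
    have h0 : Nat.card (P : Subgroup G) ∣ p.factorial := by
      have h := (Subgroup.card_subgroup_dvd_card (P : Subgroup G)).trans
        (Subgroup.card_dvd_of_injective _ hinj)
      rwa [Nat.card_perm, hΩ] at h
    have h1 : p ∣ Nat.card (P : Subgroup G) :=
      P.dvd_card_of_dvd_card (hto ▸ orderOf_dvd_natCard t)
    rw [hn] at h0 h1 ⊢
    have hn1 : n = 1 := by
      rcases Nat.lt_or_ge n 2 with h | h
      · interval_cases n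
        · rw [pow_zero] at h1
          exact absurd (Nat.le_of_dvd one_pos h1) (by have := hp.two_le; omega)
        · rfl
      · exfalso
        have h2 : p ^ 2 ∣ p.factorial := (pow_dvd_pow p h).trans h0
        obtain ⟨m, hm⟩ : ∃ m, p = m + 1 := ⟨p - 1, by have := hp.pos; omega⟩
        rw [pow_two] at h2
        nth_rewrite 3 [hm] at h2
        rw [Nat.factorial_succ, ← hm] at h2
        have h3 := Nat.dvd_of_mul_dvd_mul_left hp.pos h2
        rw [hp.dvd_factorial] at h3
        omega
    rw [hn1, pow_one]
  obtain ⟨Q, hQ⟩ := (IsPGroup.of_card (G := Subgroup.zpowers t) (p := p) (n := 1)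
    (by rw [Nat.card_zpowers, hto, pow_one])).exists_le_sylow
  have hQeq : (Q : Subgroup G) = Subgroup.zpowers t := by
    refine (Subgroup.eq_of_le_of_card_ge hQ ?_).symm
    rw [Nat.card_zpowers, hto, ← Sylow.card_eq_multiplicity Q |>.trans
      (Sylow.card_eq_multiplicity P).symm |>.trans hPcard |>.symm]
  set N := Subgroup.normalizer ((Q : Subgroup G) : Set G) with hNdef
  have hNQ : 2 * Nat.card N = p * (p - 1) := by
    have h1 := (Subgroup.normalizer ((P : Subgroup G) : Set G)).card_mul_index
    have h2 := N.card_mul_index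
    have e1 : Nat.card (Sylow p G) = (Subgroup.normalizer ((P : Subgroup G) : Set G)).index :=
      P.card_eq_index_normalizer
    have e2 : Nat.card (Sylow p G) = N.index := Q.card_eq_index_normalizer
    rw [← e1] at h1
    rw [← e2, ← h1] at h2
    rw [Nat.eq_of_mul_eq_mul_right Nat.card_pos h2, hN]
  -- the action of the normalizer on the coordinates
  have hAff : ∀ n : N, ∃ m : (ZMod p)ˣ, ∃ b : ZMod p,
      ∀ k, (n : G) • e k = e ((m : ZMod p) * k + b) := by
    intro n
    have hmem : (n : G) * t * (n : G)⁻¹ ∈ Subgroup.zpowers t := by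
      rw [← hQeq]
      exact (Subgroup.mem_normalizer_iff.1 n.2 t).1 (hQeq ▸ Subgroup.mem_zpowers t)
    obtain ⟨m, hm⟩ : ∃ m : ℕ, t ^ m = (n : G) * t * (n : G)⁻¹ :=
      (isOfFinOrder_of_finite t).mem_powers_iff_mem_zpowers.2 hmem
    set b : ZMod p := e.symm ((n : G) • e 0) with hb
    have key : ∀ j : ℕ, (n : G) • e (j : ZMod p) = e ((m : ZMod p) * j + b) := by
      intro j
      induction j with
      | zero => simp [hb]
      | succ j ih =>
        rw [Nat.cast_succ, ← ht, ← mul_smul, show (n : G) * t = t ^ m * (n : G) by rw [hm]; group,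
          mul_smul, ih, htn]
        congr 1
        ring
    have key' : ∀ k : ZMod p, (n : G) • e k = e ((m : ZMod p) * k + b) := fun k => by
      have := key k.val
      rwa [ZMod.natCast_rightInverse k] at this
    have hm0 : (m : ZMod p) ≠ 0 := by
      intro h0
      have h1 := key' 1
      have h2 := key' 0
      rw [h0, zero_mul] at h1 h2
      exact one_ne_zero (e.injective (MulAction.injective (n : G) (h1.trans h2.symm)))
    exact ⟨Units.mk0 _ hm0, b, key'⟩
  choose m b hmb using hAff
  have huniq : ∀ (n : N) (m' b' : ZMod p), (∀ k, (n : G) • e k = e (m' * k + b')) →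
      (m n : ZMod p) = m' ∧ b n = b' := by
    intro n m' b' h'
    have h0 := e.injective ((hmb n 0).symm.trans (h' 0))
    have h1 := e.injective ((hmb n 1).symm.trans (h' 1))
    simp only [mul_zero, zero_add, mul_one] at h0 h1
    exact ⟨by rw [h0] at h1; exact add_right_cancel h1, h0⟩
  have hmul : ∀ n n' : N, m (n * n') = m n * m n' := fun n n' => Units.ext <|
    (huniq (n * n') ((m n : ZMod p) * m n') ((m n : ZMod p) * b n' + b n) fun k => by
      rw [Subgroup.coe_mul, mul_smul, hmb, hmb]; congr 1; ring).1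
  let φ : N →* (ZMod p)ˣ := MonoidHom.mk' m hmul
  have htN : t ∈ N := Subgroup.le_normalizer (by rw [hQeq]; exact Subgroup.mem_zpowers t)
  have hker : Nat.card φ.ker ≤ p := by
    have hinjb : Function.Injective fun n : φ.ker => b (n : N) := by
      intro x y hxy
      refine Subtype.ext (Subtype.ext (eq_of_smul_eq_smul fun z : Ω => ?_))
      obtain ⟨k, rfl⟩ := e.surjective z
      have hx : m (x : N) = 1 := x.2
      have hy : m (y : N) = 1 := y.2
      rw [hmb, hmb, hx, hy, show b (x : N) = b (y : N) from hxy]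
    have := Nat.card_le_card_of_injective _ hinjb
    rwa [Nat.card_zmod] at this
  have hrange : (φ.range.index ∣ 2) := by
    have h1 : Nat.card φ.ker * Nat.card φ.range = Nat.card N := by
      rw [← φ.ker.card_mul_index, Subgroup.index_ker]
    have h2 : Nat.card φ.range * φ.range.index = p - 1 := by
      rw [φ.range.card_mul_index, Nat.card_units, Nat.card_zmod]
    have h3 : φ.range.index * (p * 1) ≤ 2 * p := by
      have h4 : φ.range.index * (Nat.card φ.ker * Nat.card φ.range) * 2 =
          φ.range.index * (p * (p - 1)) := by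
        rw [h1, mul_assoc, mul_comm _ 2, hNQ]
      have h5 : (p - 1) * (2 * Nat.card φ.ker) = (p - 1) * (φ.range.index * p) := by
        calc (p - 1) * (2 * Nat.card φ.ker)
            = φ.range.index * (Nat.card φ.ker * Nat.card φ.range) * 2 := by rw [← h2]; ring
          _ = φ.range.index * (p * (p - 1)) := h4
          _ = (p - 1) * (φ.range.index * p) := by ring
      have h6 := Nat.eq_of_mul_eq_mul_left (by have := hp.two_le; omega) h5
      rw [mul_one, ← h6]
      omega
    rw [mul_one] at h3
    have h4 : φ.range.index ≤ 2 := Nat.le_of_mul_le_mul_right h3 hp.pos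
    have h5 : 0 < φ.range.index := Nat.pos_of_ne_zero φ.range.index_ne_zero_of_finite
    interval_cases φ.range.index <;> decide
  have h2t : MulAction.IsMultiplyPretransitive H Ω 2 :=
    (Cfsg.Agent.Perm.PrimeDegree.two_transitive_or_affine H e t' ht').resolve_right
      fun haff => hinsH (Cfsg.Agent.Perm.PrimeDegree.isSolvable_of_affine H e haff)
  refine ⟨⟨e, t, ht, ?_, ?_, hinsH, hp2⟩⟩
  · intro u hu
    have hmem : (Units.mk0 u hu) ^ 2 ∈ φ.range := by
      rcases (Nat.dvd_prime Nat.prime_two).1 hrange with h | h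
      · rw [Subgroup.index_eq_one.1 h]; exact Subgroup.mem_top _
      · exact Subgroup.sq_mem_of_index_two h _
    obtain ⟨n, hn⟩ := hmem
    have hmn : (m n : ZMod p) = u * u := by
      rw [show m n = φ n from rfl, hn]; simp [pow_two]
    refine ⟨t ^ (-b n).val * (n : G), fun k => ?_⟩
    rw [mul_smul, hmb, htn, hmn, ZMod.natCast_zmod_val]
    congr 1
    ring
  · intro a c c' d hac hcd
    obtain ⟨g, h1, h2⟩ := MulAction.is_two_pretransitive_iff.1 h2t hac hcd
    obtain ⟨g', hg'⟩ := g.2
    refine ⟨g', ?_, ?_⟩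
    · rw [← h1]
      show g' • a = (g : Equiv.Perm Ω) a
      rw [← hg']; rfl
    · rw [← h2]
      show g' • c = (g : Equiv.Perm Ω) c
      rw [← hg']; rfl

namespace Coord

variable (C : Coord p G Ω)

theorem tpow (n : ℕ) (k : ZMod p) : C.t ^ n • C.e k = C.e (k + n) := by
  induction n generalizing k with
  | zero => simp
  | succ n ih =>
    rw [pow_succ', mul_smul, ih, C.ht, Nat.cast_succ, add_assoc]

theorem shift [Fact p.Prime] (c : ZMod p) : ∃ g : G, ∀ k, g • C.e k = C.e (k + c) :=
  ⟨C.t ^ c.val, fun k => by rw [C.tpow, ZMod.natCast_zmod_val]⟩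

/-- An invariant kernel on `Y × Ω` whose moments of order `0` and `1` vanish is constant on rows. -/
theorem crit [Fact p.Prime] [Fintype Ω] {Y : Type*} [MulAction G Y] (M : Y → Ω → ZMod p)
    (hM : ∀ (g : G) y x, M (g • y) (g • x) = M y x) (h0 : ∀ y, ∑ x, M y x = 0)
    (h1 : ∀ y, ∑ x, M y x * C.e.symm x = 0) (y : Y) (a b : Ω) : M y a = M y b := by
  classical
  have hp : p.Prime := Fact.out
  let H := (MulAction.toPermHom G Ω).range
  have hΩ : Fintype.card Ω = p := by
    rw [← Fintype.card_congr C.e, ZMod.card]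
  haveI : MulAction.IsPretransitive H Ω := ⟨fun a b => by
    obtain ⟨g, hg⟩ := C.shift (C.e.symm b - C.e.symm a)
    refine ⟨⟨MulAction.toPermHom G Ω g, g, rfl⟩, ?_⟩
    show g • a = b
    have := hg (C.e.symm a)
    rwa [Equiv.apply_symm_apply, add_sub_cancel, Equiv.apply_symm_apply] at this⟩
  let W : Subrepresentation (Cfsg.permRep (ZMod p) H Ω) :=
    { toSubmodule :=
        { carrier := {u | (∑ x, u x = 0) ∧ ∀ y, ∑ x, M y x * u x = 0}
          add_mem' := fun {u v} hu hv => ⟨by simp [Finset.sum_add_distrib, hu.1, hv.1],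
            fun y => by simp [mul_add, Finset.sum_add_distrib, hu.2 y, hv.2 y]⟩
          zero_mem' := ⟨by simp, fun y => by simp⟩
          smul_mem' := fun c u hu => ⟨by simp [← Finset.mul_sum, hu.1], fun y => by
            simp [mul_left_comm _ c, ← Finset.mul_sum, hu.2 y]⟩ }
      apply_mem_toSubmodule := by
        rintro ⟨_, g, rfl⟩ u ⟨hu1, hu2⟩
        have key : ∀ f : Ω → ZMod p, ∑ x, f x = ∑ x, f (g • x) := fun f =>
          (Fintype.sum_equiv (MulAction.toPerm g) _ _ fun x => rfl).symm
        have happ : ∀ x, Cfsg.permRep (ZMod p) H Ω ⟨MulAction.toPermHom G Ω g, g, rfl⟩ u (g • x) = u x := by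
          intro x
          show u ((MulAction.toPermHom G Ω g)⁻¹ (g • x)) = u x
          rw [← map_inv]
          show u (g⁻¹ • g • x) = u x
          rw [inv_smul_smul]
        refine ⟨?_, fun y => ?_⟩
        · rw [key]; simp only [happ]; exact hu1
        · rw [key]
          simp only [happ]
          have := hu2 (g⁻¹ • y)
          rw [← this]
          refine Finset.sum_congr rfl fun x _ => ?_
          rw [← hM g (g⁻¹ • y) x, smul_inv_smul] }
  have hone : (fun _ => (1 : ZMod p)) ∈ W.toSubmodule := by
    refine ⟨?_, fun y => ?_⟩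
    · rw [Finset.sum_const, Finset.card_univ, hΩ, nsmul_one, ZMod.natCast_self]
    · simp only [mul_one]; exact h0 y
  have h21 : (2 : ZMod p) ≠ 0 := by
    intro hh
    have : ((2 : ℕ) : ZMod p) = 0 := by exact_mod_cast hh
    rw [ZMod.natCast_eq_zero_iff] at this
    exact C.odd ((Nat.prime_dvd_prime_iff_eq hp Nat.prime_two).1 this)
  have hv : (fun x => C.e.symm x) ∈ W.toSubmodule := by
    refine ⟨?_, h1⟩
    rw [C.e.symm.sum_comp fun k => k]
    have h2 : ∑ k : ZMod p, k = ∑ k : ZMod p, -k :=
      Fintype.sum_equiv (Equiv.neg _) _ _ fun k => by simp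
    rw [Finset.sum_neg_distrib] at h2
    exact (mul_eq_zero.1 (by linear_combination h2 : (2 : ZMod p) * ∑ k : ZMod p, k = 0)).resolve_left h21
  have hW : W = Cfsg.permSumZero (ZMod p) H Ω := by
    refine (Cfsg.Agent.S0674.result hΩ H C.ins W ?_ ?_).resolve_left fun hW => ?_
    · show Submodule.span _ _ ≤ _
      rw [Submodule.span_singleton_le_iff_mem]
      exact hone
    · intro u hu
      exact hu.1
    · rw [hW] at hv
      obtain ⟨c, hc⟩ := Submodule.mem_span_singleton.1 hv
      have e1 := congrFun hc (C.e 0)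
      have e2 := congrFun hc (C.e 1)
      simp at e1 e2
      exact one_ne_zero (e2.symm.trans e1)
  by_cases hab : a = b
  · rw [hab]
  have hd : (Pi.single a 1 - Pi.single b 1 : Ω → ZMod p) ∈ W.toSubmodule := by
    rw [hW]
    show ∑ z, (Pi.single a 1 - Pi.single b 1 : Ω → ZMod p) z = 0
    simp [Finset.sum_sub_distrib]
  have := hd.2 y
  simpa [mul_sub, Finset.sum_sub_distrib, Pi.single_apply, sub_eq_zero] using this

end Coord

end Cfsg.Agent.Perm.HalfNormalizer
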