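import Cfsg.Agent.Lib.Perm.HalfNormalizer.Coord

/-!
A non-solvable group of prime degree with a half Sylow normalizer: the stabilizer of two points has
at most two orbits on the other points.
-/

set_option autoImplicit false

namespace Cfsg.Agent.Perm.HalfNormalizer.Coord

open Finset

variable {p : ℕ} [Fact p.Prime] {G : Type*} [Group G] {Ω : Type*} [MulAction G Ω] [Fintype Ω]
  (C : Coord p G Ω)

include C

theorem exists_nonsquare : ∃ ν : ZMod p, ¬ IsSquare ν :=
  FiniteField.exists_nonsquare (by rw [ZMod.ringChar_zmod_n]; exact C.odd)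

theorem square_or (ν : ZMod p) (hν : ¬ IsSquare ν) (d : ZMod p) (hd : d ≠ 0) :
    ∃ u : ZMod p, u ≠ 0 ∧ (d = u * u ∨ d = u * u * ν) := by
  by_cases hs : IsSquare d
  · obtain ⟨u, rfl⟩ := hs
    exact ⟨u, fun h => hd (by simp [h]), Or.inl rfl⟩
  · have h2 : ringChar (ZMod p) ≠ 2 := by rw [ZMod.ringChar_zmod_n]; exact C.odd
    have hν0 : ν ≠ 0 := fun h => hν (h ▸ ⟨0, by simp⟩)
    have e1 := quadraticChar_neg_one_iff_not_isSquare.2 hν
    have e2 := quadraticChar_neg_one_iff_not_isSquare.2 hs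
    have e3 : quadraticChar (ZMod p) (d * ν) = 1 := by rw [map_mul, e1, e2]; norm_num
    obtain ⟨v, hv⟩ := (quadraticChar_one_iff_isSquare (mul_ne_zero hd hν0)).1 e3
    refine ⟨v / ν, div_ne_zero (fun h => mul_ne_zero hd hν0 (by rw [hv, h, mul_zero])) hν0,
      Or.inr ?_⟩
    field_simp
    linear_combination hv

/-- The moment of order one of an invariant kernel whose moment of order zero vanishes. -/
theorem moment_zero {Y : Type*} [MulAction G Y] (M : Y → Ω → ZMod p)
    (hM : ∀ (g : G) y x, M (g • y) (g • x) = M y x) (h0 : ∀ y, ∑ x, M y x = 0)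
    {g : G} {m b : ZMod p} (hg : ∀ k, g • C.e k = C.e (m * k + b)) (y : Y) :
    ∑ x, M (g • y) x * C.e.symm x = m * ∑ x, M y x * C.e.symm x := by
  have hx : ∀ x, C.e.symm (g • x) = m * C.e.symm x + b := fun x => by
    have := hg (C.e.symm x)
    rw [Equiv.apply_symm_apply] at this
    rw [this, Equiv.symm_apply_apply]
  calc ∑ x, M (g • y) x * C.e.symm x
      = ∑ x, M (g • y) (g • x) * C.e.symm (g • x) :=
        (Fintype.sum_equiv (MulAction.toPerm g) _ _ fun x => rfl).symm
    _ = ∑ x, (m * (M y x * C.e.symm x) + b * M y x) := by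
        refine Finset.sum_congr rfl fun x _ => ?_
        rw [hM, hx]
        ring
    _ = _ := by
        rw [Finset.sum_add_distrib, ← Finset.mul_sum, ← Finset.mul_sum, h0, mul_zero, add_zero]

/-- On pairs, it is enough to know the moment of order one at two pairs. -/
theorem moment_pairs (M : Ω × Ω → Ω → ZMod p)
    (hM : ∀ (g : G) y x, M (g • y) (g • x) = M y x) (h0 : ∀ y, ∑ x, M y x = 0)
    (hdiag : ∀ a x, M (a, a) x = 0) {ν : ZMod p} (hν : ¬ IsSquare ν)
    (h1 : ∑ x, M (C.e 0, C.e 1) x * C.e.symm x = 0)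
    (h2 : ∑ x, M (C.e 0, C.e ν) x * C.e.symm x = 0) (y : Ω × Ω) :
    ∑ x, M y x * C.e.symm x = 0 := by
  obtain ⟨a, b⟩ := y
  obtain ⟨i, rfl⟩ := C.e.surjective a
  obtain ⟨j, rfl⟩ := C.e.surjective b
  by_cases hij : j - i = 0
  · rw [sub_eq_zero.1 hij]
    simp [hdiag]
  obtain ⟨g, hg⟩ := C.shift i
  have e1 := C.moment_zero M hM h0 (g := g) (m := 1) (b := i) (fun k => by rw [hg, one_mul])
    (C.e 0, C.e (j - i))
  rw [Prod.smul_mk, hg, hg, zero_add, sub_add_cancel, one_mul] at e1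
  rw [e1]
  obtain ⟨u, hu, hd⟩ := C.square_or ν hν (j - i) hij
  obtain ⟨s, hs⟩ := C.hsq u hu
  have key : ∀ d, ∑ x, M (C.e 0, C.e d) x * C.e.symm x = 0 →
      ∑ x, M (C.e 0, C.e (u * u * d)) x * C.e.symm x = 0 := by
    intro d hd0
    have e2 := C.moment_zero M hM h0 (g := s) (m := u * u) (b := 0)
      (fun k => by rw [hs, add_zero]) (C.e 0, C.e d)
    rw [Prod.smul_mk, hs, hs, mul_zero, hd0, mul_zero] at e2
    exact e2
  rcases hd with hd | hd
  · rw [hd]
    have := key 1 h1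
    rwa [mul_one] at this
  · rw [hd]
    exact key ν h2

/-- The relation given by an orbit of the stabilizer of two points. -/
def Rel (G : Type*) [Group G] {Ω : Type*} [MulAction G Ω] (a b c : Ω) (y : Ω × Ω) (z : Ω) : Prop :=
  ∃ g : G, g • a = y.1 ∧ g • b = y.2 ∧ g • c = z

omit [Fact p.Prime] [Fintype Ω] C in
theorem rel_smul (g : G) (a b c : Ω) (y : Ω × Ω) (z : Ω) :
    Rel G a b c (g • y) (g • z) ↔ Rel G a b c y z := by
  constructor
  · rintro ⟨k, h1, h2, h3⟩
    refine ⟨g⁻¹ * k, ?_, ?_, ?_⟩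
    · rw [mul_smul, h1]; simp
    · rw [mul_smul, h2]; simp
    · rw [mul_smul, h3]; simp
  · rintro ⟨k, h1, h2, h3⟩
    exact ⟨g * k, by rw [mul_smul, h1]; rfl, by rw [mul_smul, h2]; rfl, by rw [mul_smul, h3]⟩

/-- Among three points, two lie in one orbit of the stabilizer of two points. -/
theorem at_most_two {a b : Ω} (hab : a ≠ b) (c₁ c₂ c₃ : Ω) (h₁ : c₁ ≠ a ∧ c₁ ≠ b)
    (h₂ : c₂ ≠ a ∧ c₂ ≠ b) (h₃ : c₃ ≠ a ∧ c₃ ≠ b) :
    (∃ g : G, g • a = a ∧ g • b = b ∧ g • c₁ = c₂) ∨
    (∃ g : G, g • a = a ∧ g • b = b ∧ g • c₁ = c₃) ∨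
    (∃ g : G, g • a = a ∧ g • b = b ∧ g • c₂ = c₃) := by
  classical
  by_contra hcon
  push Not at hcon
  obtain ⟨n12, n13, n23⟩ := hcon
  let c : Fin 3 → Ω := ![c₁, c₂, c₃]
  have hc : ∀ i, c i ≠ a ∧ c i ≠ b := fun i => by fin_cases i <;> assumption
  have hsymm : ∀ x z : Ω, (∀ g : G, g • a = a → g • b = b → g • x ≠ z) →
      ∀ g : G, g • a = a → g • b = b → g • z ≠ x := by
    intro x z h g ga gb gz
    exact h g⁻¹ (inv_smul_eq_iff.2 ga.symm) (inv_smul_eq_iff.2 gb.symm)
      (inv_smul_eq_iff.2 gz.symm)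
  have hdisj : ∀ i j, Rel G a b (c i) (a, b) (c j) → i = j := by
    rintro i j ⟨g, ga, gb, gc⟩
    fin_cases i <;> fin_cases j <;> first
      | rfl
      | exact absurd gc (n12 g ga gb)
      | exact absurd gc (n13 g ga gb)
      | exact absurd gc (n23 g ga gb)
      | exact absurd gc (hsymm _ _ n12 g ga gb)
      | exact absurd gc (hsymm _ _ n13 g ga gb)
      | exact absurd gc (hsymm _ _ n23 g ga gb)
  let B : Fin 4 → Ω × Ω → Ω → ZMod p :=
    Fin.cons (fun y z => if y.1 ≠ y.2 ∧ z = y.2 then 1 else 0)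
      fun i y z => if Rel G a b (c i) y z then 1 else 0
  have hB : ∀ i (g : G) y z, B i (g • y) (g • z) = B i y z := by
    intro i g y z
    refine Fin.cases ?_ (fun j => ?_) i
    · simp only [B, Fin.cons_zero]
      refine if_congr ?_ rfl rfl
      rw [Prod.smul_fst, Prod.smul_snd]
      simp
    · simp only [B, Fin.cons_succ]
      exact if_congr (rel_smul g a b (c j) y z) rfl rfl
  obtain ⟨ν, hν⟩ := C.exists_nonsquare
  let M : (Fin 4 → ZMod p) → Ω × Ω → Ω → ZMod p := fun w y z => ∑ i, w i * B i y z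
  let L : (Fin 4 → ZMod p) →ₗ[ZMod p] (Fin 3 → ZMod p) :=
    { toFun := fun w => ![∑ z, M w (a, b) z, ∑ z, M w (C.e 0, C.e 1) z * C.e.symm z,
        ∑ z, M w (C.e 0, C.e ν) z * C.e.symm z]
      map_add' := fun v w => by
        ext i
        fin_cases i <;> simp [M, add_mul, Finset.sum_add_distrib]
      map_smul' := fun r w => by
        ext i
        fin_cases i <;> simp [M, Finset.mul_sum, Finset.sum_mul, mul_assoc] }
  have hker : LinearMap.ker L ≠ ⊥ := by
    intro h
    have := LinearMap.finrank_le_finrank_of_injective (LinearMap.ker_eq_bot.1 h)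
    simp at this
  obtain ⟨w, hwL, hw0⟩ := Submodule.exists_mem_ne_zero_of_ne_bot hker
  have hwL' : L w = 0 := hwL
  have e0 : ∑ z, M w (a, b) z = 0 := congrFun hwL' 0
  have e1 : ∑ z, M w (C.e 0, C.e 1) z * C.e.symm z = 0 := congrFun hwL' 1
  have e2 : ∑ z, M w (C.e 0, C.e ν) z * C.e.symm z = 0 := congrFun hwL' 2
  have hMinv : ∀ (g : G) y z, M w (g • y) (g • z) = M w y z := fun g y z => by
    simp only [M, hB]
  have hdiag : ∀ x z, M w (x, x) z = 0 := by
    intro x z
    refine Finset.sum_eq_zero fun i _ => ?_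
    refine mul_eq_zero_of_right _ ?_
    refine Fin.cases ?_ (fun j => ?_) i
    · simp [B]
    · simp only [B, Fin.cons_succ]
      refine if_neg ?_
      rintro ⟨g, ga, gb, -⟩
      exact hab (MulAction.injective g (ga.trans gb.symm))
  have h0 : ∀ y, ∑ z, M w y z = 0 := by
    rintro ⟨x, y⟩
    by_cases hxy : x = y
    · subst hxy
      simp [hdiag]
    · obtain ⟨g, gx, gy⟩ := C.two a b x y hab hxy
      rw [← gx, ← gy, ← Fintype.sum_equiv (MulAction.toPerm g)
        (fun z => M w (g • a, g • b) (g • z)) _ fun z => rfl]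
      rw [← Prod.smul_mk]
      simp only [hMinv]
      exact e0
  have hconst := C.crit (M w) hMinv h0 (C.moment_pairs (M w) hMinv h0 hdiag hν e1 e2) (a, b)
  have hrel : ∀ j z, Rel G a b (c j) (a, b) z → z ≠ a ∧ z ≠ b := by
    rintro j _ ⟨g, ga, gb, rfl⟩
    exact ⟨fun h => (hc j).1 (MulAction.injective g (h.trans ga.symm)),
      fun h => (hc j).2 (MulAction.injective g (h.trans gb.symm))⟩
  have hMa : M w (a, b) a = 0 := by
    refine Finset.sum_eq_zero fun i _ => mul_eq_zero_of_right _ ?_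
    refine Fin.cases ?_ (fun j => ?_) i
    · simp [B, hab]
    · simp only [B, Fin.cons_succ]
      exact if_neg fun h => (hrel j a h).1 rfl
  apply hw0
  funext i
  refine Fin.cases ?_ (fun j => ?_) i
  · have hb := (hconst b a).trans hMa
    simp only [M, Fin.sum_univ_succ (n := 3), B, Fin.cons_zero, Fin.cons_succ] at hb
    simp only [ne_eq, hab, not_false_eq_true, and_self, if_true, mul_one] at hb
    rw [Finset.sum_eq_zero (fun j _ => by rw [if_neg fun h => (hrel j b h).2 rfl, mul_zero]),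
      add_zero] at hb
    exact hb
  · have hj := (hconst (c j) a).trans hMa
    simp only [M, Fin.sum_univ_succ (n := 3), B, Fin.cons_zero, Fin.cons_succ] at hj
    rw [if_neg (fun h => (hc j).2 h.2), mul_zero, zero_add, Finset.sum_eq_single j] at hj
    · rwa [if_pos ⟨1, one_smul _ _, one_smul _ _, one_smul _ _⟩, mul_one] at hj
    · intro i _ hij
      rw [if_neg fun h => hij (hdisj i j h), mul_zero]
    · simp

end Cfsg.Agent.Perm.HalfNormalizer.Coord
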