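import Cfsg.Agent.Lib.Perm.HalfNormalizer.Orbits

/-!
A non-solvable group of prime degree `p > 7` with a half Sylow normalizer preserves no totally
symmetric quasigroup structure of Netto type on the points.
-/

set_option autoImplicit false

namespace Cfsg.Agent.Perm.HalfNormalizer.Coord

variable {p : ℕ} [hp : Fact p.Prime] {G : Type*} [Group G] {Ω : Type*} [MulAction G Ω] [Fintype Ω]
  (C : Coord p G Ω)

include C

theorem natCast_ne_zero {n : ℕ} (h0 : 0 < n) (hn : n < p) : (n : ZMod p) ≠ 0 := by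
  rw [Ne, ZMod.natCast_eq_zero_iff]
  exact fun h => absurd (Nat.le_of_dvd h0 h) (not_le.2 hn)

theorem sq_mul_of_not {a b : ZMod p} (ha : ¬ IsSquare a) (hb : ¬ IsSquare b) :
    IsSquare (a * b) := by
  have hab : a * b ≠ 0 :=
    mul_ne_zero (fun h => ha (h ▸ ⟨0, by simp⟩)) (fun h => hb (h ▸ ⟨0, by simp⟩))
  refine (quadraticChar_one_iff_isSquare hab).1 ?_
  rw [map_mul, quadraticChar_neg_one_iff_not_isSquare.2 ha,
    quadraticChar_neg_one_iff_not_isSquare.2 hb]
  norm_num

theorem not_sq_mul {a b : ZMod p} (ha : IsSquare a) (ha0 : a ≠ 0) (hb : ¬ IsSquare b) :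
    ¬ IsSquare (a * b) := by
  intro h
  refine hb ?_
  have := h.mul ha
  rw [show a * b * a = b * (a * a) by ring] at this
  obtain ⟨r, hr⟩ := this
  exact ⟨r / a, by field_simp; linear_combination hr⟩

/-- No invariant operation is given on the coordinates by the Netto rule. -/
theorem no_netto (h7 : 7 < p) (Q : Ω → Ω → Ω)
    (hQ : ∀ (g : G) x y, Q (g • x) (g • y) = g • Q x y)
    (hQdiag : ∀ x, Q x x = x)
    (hne : ∀ x y, x ≠ y → Q x y ≠ x ∧ Q x y ≠ y)
    (hcomm : ∀ x y, Q x y = Q y x)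
    (hinv : ∀ x y, Q x (Q x y) = y)
    (hmix : ∀ d : ZMod p, d ≠ 0 → ¬ IsSquare (d * C.e.symm (Q (C.e 0) (C.e d)))) :
    False := by
  classical
  -- coordinates
  set q : ZMod p → ZMod p → ZMod p := fun x y => C.e.symm (Q (C.e x) (C.e y)) with hq
  have hqe : ∀ x y, C.e (q x y) = Q (C.e x) (C.e y) := fun x y => C.e.apply_symm_apply _
  have hqinv : ∀ x y, q x (q x y) = y := fun x y => by
    apply C.e.injective
    rw [hqe, hqe, hinv]
  have hqcomm : ∀ x y, q x y = q y x := fun x y => by simp only [hq]; rw [hcomm]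
  have hqshift : ∀ x y c, q (x + c) (y + c) = q x y + c := fun x y c => by
    obtain ⟨g, hg⟩ := C.shift c
    apply C.e.injective
    rw [hqe, ← hg, ← hg, hQ, ← hqe, hg]
  have hqscale : ∀ u x y, u ≠ 0 → q (u * u * x) (u * u * y) = u * u * q x y := fun u x y hu => by
    obtain ⟨g, hg⟩ := C.hsq u hu
    apply C.e.injective
    rw [hqe, ← hg, ← hg, hQ, ← hqe, hg]
  set w := q 0 1 with hw
  have h10 : (1 : ZMod p) ≠ 0 := one_ne_zero
  have hw0 : w ≠ 0 := fun h => (hne (C.e 0) (C.e 1) (C.e.injective.ne h10.symm)).1 (by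
    rw [← hqe]; exact congrArg C.e h)
  have hw1 : w ≠ 1 := fun h => (hne (C.e 0) (C.e 1) (C.e.injective.ne h10.symm)).2 (by
    rw [← hqe]; exact congrArg C.e h)
  have hwns : ¬ IsSquare w := by
    have := hmix 1 h10
    rwa [one_mul] at this
  have q0sq : ∀ d, IsSquare d → q 0 d = d * w := by
    intro d hd
    obtain ⟨u, rfl⟩ := hd
    by_cases hu : u = 0
    · subst hu
      apply C.e.injective
      simp [hqe, hQdiag]
    · have := hqscale u 0 1 hu
      rwa [mul_zero, mul_one] at this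
  have q0ns : ∀ d, ¬ IsSquare d → q 0 d = d / w := by
    intro d hd
    obtain ⟨u, hu⟩ : IsSquare (d / w) := by
      have := C.sq_mul_of_not hd hwns
      obtain ⟨r, hr⟩ := this
      exact ⟨r / w, by field_simp; linear_combination hr⟩
    have hd' : d = u * u * w := by rw [← hu]; field_simp
    have h1 := q0sq (u * u) ⟨u, rfl⟩
    rw [hd', ← h1, hqinv, h1]
    field_simp
  have qsq : ∀ x y, IsSquare (y - x) → q x y = x + (y - x) * w := fun x y h => by
    have := hqshift 0 (y - x) x
    rw [zero_add, sub_add_cancel, q0sq _ h] at this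
    rw [this, add_comm]
  have qns : ∀ x y, ¬ IsSquare (y - x) → q x y = x + (y - x) / w := fun x y h => by
    have := hqshift 0 (y - x) x
    rw [zero_add, sub_add_cancel, q0ns _ h] at this
    rw [this, add_comm]
  have n2 : (2 : ZMod p) ≠ 0 := by exact_mod_cast C.natCast_ne_zero (n := 2) (by norm_num) (by omega)
  have n3 : (3 : ZMod p) ≠ 0 := by exact_mod_cast C.natCast_ne_zero (n := 3) (by norm_num) (by omega)
  have n7 : (7 : ZMod p) ≠ 0 := by exact_mod_cast C.natCast_ne_zero (n := 7) (by norm_num) (by omega)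
  have s1 : IsSquare (1 : ZMod p) := ⟨1, by ring⟩
  -- `-1` is not a square and `w ^ 2 = w - 1`
  have hm1 : ¬ IsSquare (-1 : ZMod p) := by
    intro hm
    have h1 := hqcomm 0 1
    rw [qsq 1 0 (by rwa [zero_sub]), ← hw] at h1
    have hmw : ¬ IsSquare (0 - w) := by
      rw [zero_sub, ← neg_one_mul]
      exact C.not_sq_mul hm (neg_ne_zero.2 h10) hwns
    have h2 := hqcomm 0 w
    rw [hqinv 0 1, qns w 0 hmw] at h2
    field_simp at h2
    have hw2 : w = 2 := mul_right_cancel₀ hw0 (by linear_combination -h2)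
    rw [hw2] at h1
    exact n3 (by linear_combination h1)
  have hw2 : w * w = w - 1 := by
    have h1 := hqcomm 0 1
    rw [qns 1 0 (by rwa [zero_sub]), ← hw] at h1
    field_simp at h1
    linear_combination h1
  have hinvw : ∀ d : ZMod p, d / w = d * (1 - w) := fun d => by
    field_simp
    linear_combination d * hw2
  have qns' : ∀ x y, ¬ IsSquare (y - x) → q x y = x + (y - x) * (1 - w) := fun x y h => by
    rw [qns x y h, hinvw]
  have hwm1 : IsSquare (w - 1) := ⟨w, hw2.symm⟩
  have hwm1' : w - 1 ≠ 0 := sub_ne_zero.2 hw1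
  have hmw : IsSquare (-w) := by
    rw [← neg_one_mul]
    exact C.sq_mul_of_not hm1 hwns
  have h1w : ¬ IsSquare (1 - w) := by
    rw [show 1 - w = (w - 1) * -1 by ring]
    exact C.not_sq_mul hwm1 hwm1' hm1
  have h3 : ¬ IsSquare (3 : ZMod p) := by
    intro h
    have h' : IsSquare (-3 : ZMod p) := ⟨2 * w - 1, by linear_combination -4 * hw2⟩
    rw [show (-3 : ZMod p) = 3 * -1 by ring] at h'
    exact C.not_sq_mul h n3 hm1 h'
  -- the stabilizer of a pair is transitive off the line
  have htrans : ∀ x y : ZMod p, (x ≠ 0 ∧ x ≠ 1 ∧ x ≠ w) → (y ≠ 0 ∧ y ≠ 1 ∧ y ≠ w) →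
      ∃ g : G, g • C.e 0 = C.e 0 ∧ g • C.e 1 = C.e 1 ∧ g • C.e x = C.e y := by
    intro x y hx hy
    have hfix : ∀ g : G, g • C.e 0 = C.e 0 → g • C.e 1 = C.e 1 → g • C.e w = C.e w := fun g h0 h1 => by
      rw [hw, hqe, ← hQ, h0, h1]
    rcases C.at_most_two (C.e.injective.ne h10.symm) (C.e w) (C.e x) (C.e y)
        ⟨C.e.injective.ne hw0, C.e.injective.ne hw1⟩
        ⟨C.e.injective.ne hx.1, C.e.injective.ne hx.2.1⟩
        ⟨C.e.injective.ne hy.1, C.e.injective.ne hy.2.1⟩ with
      ⟨g, h0, h1, h⟩ | ⟨g, h0, h1, h⟩ | h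
    · exact absurd ((hfix g h0 h1).symm.trans h) (C.e.injective.ne hx.2.2.symm)
    · exact absurd ((hfix g h0 h1).symm.trans h) (C.e.injective.ne hy.2.2.symm)
    · exact h
  -- a predicate on triangles cannot vary
  have hconst : ∀ P : Ω → Ω → Ω → Prop, (∀ (g : G) a b c, P a b c → P (g • a) (g • b) (g • c)) →
      ∀ x y : ZMod p, (x ≠ 0 ∧ x ≠ 1 ∧ x ≠ w) → (y ≠ 0 ∧ y ≠ 1 ∧ y ≠ w) →
      P (C.e 0) (C.e 1) (C.e x) → P (C.e 0) (C.e 1) (C.e y) := by
    intro P hP x y hx hy h
    obtain ⟨g, h0, h1, hxy⟩ := htrans x y hx hy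
    have := hP g _ _ _ h
    rwa [h0, h1, hxy] at this
  by_cases h2 : IsSquare (2 : ZMod p)
  · -- every triangle would span a Fano plane
    let P : Ω → Ω → Ω → Prop := fun a b x => Q (Q a x) (Q b x) = Q a b
    have hP : ∀ (g : G) a b c, P a b c → P (g • a) (g • b) (g • c) := fun g a b c h => by
      show Q (Q (g • a) (g • c)) (Q (g • b) (g • c)) = Q (g • a) (g • b)
      simp only [hQ]
      exact congrArg (g • ·) h
    have hPq : ∀ x, P (C.e 0) (C.e 1) (C.e x) ↔ q (q 0 x) (q 1 x) = w := fun x => by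
      show Q (Q (C.e 0) (C.e x)) (Q (C.e 1) (C.e x)) = Q (C.e 0) (C.e 1) ↔ _
      rw [← hqe, ← hqe, ← hqe, ← hqe]
      exact C.e.injective.eq_iff
    have ha : P (C.e 0) (C.e 1) (C.e (-1)) := by
      rw [hPq, qns' 0 (-1) (by rwa [sub_zero]), qns' 1 (-1) (by
        rw [show (-1 : ZMod p) - 1 = 2 * -1 by ring]
        exact C.not_sq_mul h2 n2 hm1)]
      rw [qns' _ _ (by
        rw [show 1 + (-1 - 1) * (1 - w) - (0 + (-1 - 0) * (1 - w)) = w by ring]
        exact hwns)]
      linear_combination -hw2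
    have hb := hconst P hP (-1) 4
      ⟨neg_ne_zero.2 h10, fun h => n2 (by linear_combination -h),
        fun h => n3 (by linear_combination hw2 + (w - 2) * h)⟩
      ⟨by rw [show (4 : ZMod p) = 2 * 2 by norm_num]; exact mul_ne_zero n2 n2,
        fun h => n3 (by linear_combination h), fun h => hwns (h ▸ ⟨2, by norm_num⟩)⟩ ha
    rw [hPq, qsq 0 4 (by rw [sub_zero]; exact ⟨2, by norm_num⟩),
      qns' 1 4 (by rw [show (4 : ZMod p) - 1 = 3 by norm_num]; exact h3)] at hb
    by_cases hd : IsSquare (1 + (4 - 1) * (1 - w) - (0 + (4 - 0) * w))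
    · rw [qsq _ _ hd] at hb
      exact n7 (by linear_combination hb + 7 * hw2)
    · rw [qns' _ _ hd] at hb
      have h13 : w = -3 := by linear_combination -hb + 7 * hw2
      have : IsSquare (-1 : ZMod p) := by
        refine ⟨5, ?_⟩
        have := hw2
        rw [h13] at this
        linear_combination -2 * this
      exact hm1 this
  · let P : Ω → Ω → Ω → Prop := fun a b x => Q (Q a x) b = Q (Q (Q (Q a b) x) b) x
    have hP : ∀ (g : G) a b c, P a b c → P (g • a) (g • b) (g • c) := fun g a b c h => by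
      show Q (Q (g • a) (g • c)) (g • b) = Q (Q (Q (Q (g • a) (g • b)) (g • c)) (g • b)) (g • c)
      simp only [hQ]
      exact congrArg (g • ·) h
    have hPq : ∀ x, P (C.e 0) (C.e 1) (C.e x) ↔ q (q 0 x) 1 = q (q (q w x) 1) x := fun x => by
      show Q (Q (C.e 0) (C.e x)) (C.e 1) =
        Q (Q (Q (Q (C.e 0) (C.e 1)) (C.e x)) (C.e 1)) (C.e x) ↔ _
      rw [← hqe, ← hqe, ← hqe, ← hqe, ← hqe, ← hqe]
      exact C.e.injective.eq_iff
    have h22 : IsSquare (2 - 2 * w) := by
      rw [show 2 - 2 * w = 2 * (1 - w) by ring]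
      exact C.sq_mul_of_not h2 h1w
    have ha : P (C.e 0) (C.e 1) (C.e (1 + w)) := by
      rw [hPq, qsq w (1 + w) (by rw [add_sub_cancel_right]; exact s1)]
      have h1p : 1 + w ≠ 0 := fun h => n3 (by linear_combination (2 - w) * h + hw2)
      by_cases hs : IsSquare (1 + w)
      · have hd : IsSquare (1 - 2 * w) := by
          rw [show 1 - 2 * w = (1 + w) * -w by linear_combination hw2]
          exact hs.mul hmw
        rw [qsq 0 (1 + w) (by rwa [sub_zero])]
        rw [qsq (0 + (1 + w - 0) * w) 1 (by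
          rw [show 1 - (0 + (1 + w - 0) * w) = 2 - 2 * w by linear_combination -hw2]; exact h22)]
        rw [qsq (w + (1 + w - w) * w) 1 (by
          rw [show 1 - (w + (1 + w - w) * w) = 1 - 2 * w by ring]; exact hd)]
        rw [qns' _ (1 + w) (by
          rw [show 1 + w - (w + (1 + w - w) * w + (1 - (w + (1 + w - w) * w)) * w) = -1 by
            linear_combination 2 * hw2]
          exact hm1)]
        linear_combination (w - 1) * hw2
      · have hd : ¬ IsSquare (1 - 2 * w) := by
          rw [show 1 - 2 * w = -w * (1 + w) by linear_combination hw2]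
          exact C.not_sq_mul hmw (neg_ne_zero.2 hw0) hs
        rw [qns' 0 (1 + w) (by rwa [sub_zero])]
        rw [qsq (0 + (1 + w - 0) * (1 - w)) 1 (by
          rw [show 1 - (0 + (1 + w - 0) * (1 - w)) = w - 1 by linear_combination hw2]
          exact hwm1)]
        rw [qns' (w + (1 + w - w) * w) 1 (by
          rw [show 1 - (w + (1 + w - w) * w) = 1 - 2 * w by ring]; exact hd)]
        rw [qns' _ (1 + w) (by
          rw [show 1 + w - (w + (1 + w - w) * w + (1 - (w + (1 + w - w) * w)) * (1 - w)) = 2 by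
            linear_combination -2 * hw2]
          exact h2)]
        linear_combination -w * hw2
    have hb := hconst P hP (1 + w) (w - 1)
      ⟨fun h => n3 (by linear_combination (2 - w) * h + hw2),
        fun h => hw0 (by linear_combination h), fun h => h10 (by linear_combination h)⟩
      ⟨hwm1', fun h => n3 (by linear_combination (-w - 1) * h + hw2),
        fun h => h10 (by linear_combination -h)⟩ ha
    rw [hPq, qsq 0 (w - 1) (by rwa [sub_zero]),
      qns' w (w - 1) (by rw [sub_sub_cancel_left]; exact hm1)] at hb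
    rw [qns' (0 + (w - 1 - 0) * w) 1 (by
      rw [show 1 - (0 + (w - 1 - 0) * w) = 2 by linear_combination -hw2]; exact h2)] at hb
    rw [qsq (w + (w - 1 - w) * (1 - w)) 1 (by
      rw [show 1 - (w + (w - 1 - w) * (1 - w)) = 2 - 2 * w by ring]; exact h22)] at hb
    by_cases hd : IsSquare (w - 1 - (w + (w - 1 - w) * (1 - w) +
        (1 - (w + (w - 1 - w) * (1 - w))) * w))
    · rw [qsq _ _ hd] at hb
      exact n3 (by linear_combination (w - 2) * hb + (w ^ 2 - 5 * w + 7) * hw2)
    · rw [qns' _ _ hd] at hb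
      exact mul_ne_zero n3 n3
        (by linear_combination (2 * w - 1) * hb + (-6 * w ^ 2 + 5 * w + 11) * hw2)

end Cfsg.Agent.Perm.HalfNormalizer.Coord
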